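/-
helper93: S1936 toolkit, part 1 (sheet of helper22, section B1/B2).
`HP p G`: every subgroup of order prime to `p` is commutative of exponent dividing `p - 1`.
-/
import Mathlib
import Cfsg.Agent.Lib.Helper22.Solvable
import Cfsg.Agent.Lib.Helper22.S1936Defs

set_option autoImplicit false

namespace Cfsg.Agent.Lib.Helper93.S1936

open Subgroup
open Cfsg.Agent.Lib.Helper22.S1936

universe u

variable {G : Type u} [Group G]

theorem hp_commute {p : ℕ} (h : HP p G) {H : Subgroup G} (hH : (Nat.card ↥H).Coprime p)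
    {x y : G} (hx : x ∈ H) (hy : y ∈ H) : x * y = y * x := by
  have h0 := (h H hH).1
  have h1 : (⟨x, hx⟩ : H) * ⟨y, hy⟩ = ⟨y, hy⟩ * ⟨x, hx⟩ := h0.is_comm.comm _ _
  exact congrArg Subtype.val h1

theorem hp_pow_eq_one {p : ℕ} (h : HP p G) {H : Subgroup G} (hH : (Nat.card ↥H).Coprime p)
    {x : G} (hx : x ∈ H) : x ^ (p - 1) = 1 := (h H hH).2 x hx

/-- a `2`-group has order prime to the odd prime `p`. -/
theorem coprime_card_of_isPGroup_two [Finite G] {p : ℕ} [hp : Fact p.Prime] (hp2 : p ≠ 2)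
    {T : Subgroup G} (hT : IsPGroup 2 T) : (Nat.card ↥T).Coprime p := by
  obtain ⟨k, hk⟩ := IsPGroup.iff_card.mp hT
  rw [hk]
  apply Nat.Coprime.pow_left
  rw [Nat.coprime_primes Nat.prime_two hp.out]
  exact fun h => hp2 h.symm

/-- B1(i): a `p'`-element normalizing the `2`-group `T` centralizes it. -/
theorem mem_centralizer_of_coprime_orderOf [Finite G] {p : ℕ} [hp : Fact p.Prime] (hp2 : p ≠ 2)
    (h : HP p G) {T : Subgroup G} (hT : IsPGroup 2 T) {x : G}
    (hx : x ∈ normalizer (T : Set G)) (hcop : (orderOf x).Coprime p) :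
    x ∈ centralizer (T : Set G) := by
  have hZ : zpowers x ≤ normalizer (T : Set G) := by
    rw [zpowers_le]; exact hx
  have hdvd := Cfsg.Agent.Lib.Helper22.card_sup_dvd_mul_of_le_normalizer hZ
  have hc : (Nat.card ↥(T ⊔ zpowers x : Subgroup G)).Coprime p := by
    apply Nat.Coprime.coprime_dvd_left hdvd
    apply Nat.Coprime.mul_left (coprime_card_of_isPGroup_two hp2 hT)
    rw [Nat.card_zpowers]; exact hcop
  intro t ht
  exact hp_commute h hc (le_sup_left (a := T) ht) (le_sup_right (a := T) (mem_zpowers x))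

/-- B1(ii), elementwise: some `p`-power of an element of `N(T)` centralizes `T`. -/
theorem exists_pow_mem_centralizer [Finite G] {p : ℕ} [hp : Fact p.Prime] (hp2 : p ≠ 2)
    (h : HP p G) {T : Subgroup G} (hT : IsPGroup 2 T) {y : G}
    (hy : y ∈ normalizer (T : Set G)) :
    ∃ a : ℕ, y ^ (p ^ a) ∈ centralizer (T : Set G) := by
  have ho : orderOf y ≠ 0 := (orderOf_pos y).ne'
  obtain ⟨a, m, hm, hom⟩ := Nat.exists_eq_pow_mul_and_not_dvd ho p hp.out.ne_one
  refine ⟨a, mem_centralizer_of_coprime_orderOf hp2 h hT ((normalizer (T : Set G)).pow_mem hy _) ?_⟩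
  have : orderOf (y ^ (p ^ a)) = m := by
    rw [orderOf_pow' _ (pow_ne_zero _ hp.out.ne_zero), hom,
      Nat.gcd_eq_right (Dvd.intro _ rfl), Nat.mul_div_cancel_left _ (pow_pos hp.out.pos _)]
  rw [this]
  exact ((Nat.Prime.coprime_iff_not_dvd hp.out).mpr hm).symm

end Cfsg.Agent.Lib.Helper93.S1936
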