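/-
helper93: S1936 toolkit, part 2 (sheet of helper22, B1(iii) and B2).
-/
import Mathlib
import Cfsg.Agent.Lib.Helper93.S1936.Basic
import Cfsg.Agent.S0055

set_option autoImplicit false

namespace Cfsg.Agent.Lib.Helper93.S1936

open Subgroup
open Cfsg.Agent.Lib.Helper22.S1936

universe u

variable {G : Type u} [Group G]

/-- B1(iii): in a nonsolvable simple group of even order, `N(T) ≠ C(T)` for a Sylow `2`-subgroup
(Burnside transfer). -/
theorem not_normalizer_le_centralizer [Finite G] [IsSimpleGroup G] (hns : ¬ Group.IsSolvable G)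
    (heven : 2 ∣ Nat.card G) (T : Sylow 2 G) :
    ¬ normalizer ((T : Subgroup G) : Set G) ≤ centralizer ((T : Subgroup G) : Set G) := by
  intro hP
  have hc := MonoidHom.ker_transferSylow_isComplement' T hP
  rcases (MonoidHom.normal_ker (MonoidHom.transferSylow T hP)).eq_bot_or_eq_top with h0 | h0
  · rw [h0, isComplement'_bot_left] at hc
    apply hns
    have h2 : IsPGroup 2 G := by
      have := T.2
      rw [hc] at this
      exact this.of_equiv Subgroup.topEquiv
    have := h2.isNilpotent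
    infer_instance
  · rw [h0, isComplement'_top_left] at hc
    exact T.ne_bot_of_dvd_card heven hc

/-- a `p`-element of `N(T) \ C(T)` exists when `N(T) ≠ C(T)`. -/
theorem exists_pElement_not_centralizing [Finite G] {p : ℕ} [hp : Fact p.Prime] (hp2 : p ≠ 2)
    (h : HP p G) {T : Subgroup G} (hT : IsPGroup 2 T)
    (hN : ¬ normalizer (T : Set G) ≤ centralizer (T : Set G)) :
    ∃ x : G, x ∈ normalizer (T : Set G) ∧ x ∉ centralizer (T : Set G) ∧ ∃ a : ℕ, orderOf x = p ^ a := by
  obtain ⟨y, hyN, hyC⟩ := SetLike.not_le_iff_exists.mp hN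
  have ho : orderOf y ≠ 0 := (orderOf_pos y).ne'
  obtain ⟨a, m, hm, hom⟩ := Nat.exists_eq_pow_mul_and_not_dvd ho p hp.out.ne_one
  have hm0 : m ≠ 0 := by
    rintro rfl; exact hm (dvd_zero _)
  have hcop : (p ^ a).Coprime m := Nat.Coprime.pow_left _ ((Nat.Prime.coprime_iff_not_dvd hp.out).mpr hm)
  have h1 : y ^ (p ^ a) ∈ centralizer (T : Set G) := by
    refine mem_centralizer_of_coprime_orderOf hp2 h hT ((normalizer (T : Set G)).pow_mem hyN _) ?_
    have : orderOf (y ^ (p ^ a)) = m := by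
      rw [orderOf_pow' _ (pow_ne_zero _ hp.out.ne_zero), hom,
        Nat.gcd_eq_right (Dvd.intro _ rfl), Nat.mul_div_cancel_left _ (pow_pos hp.out.pos _)]
    rw [this]
    exact ((Nat.Prime.coprime_iff_not_dvd hp.out).mpr hm).symm
  refine ⟨y ^ m, (normalizer (T : Set G)).pow_mem hyN _, ?_, a, ?_⟩
  · intro h2
    apply hyC
    have hb := Nat.gcd_eq_gcd_ab (p ^ a) m
    rw [hcop] at hb
    have : y = (y ^ (p ^ a)) ^ (Nat.gcdA (p ^ a) m) * (y ^ m) ^ (Nat.gcdB (p ^ a) m) := by
      rw [← zpow_natCast y (p ^ a), ← zpow_natCast y m, ← zpow_mul, ← zpow_mul, ← zpow_add, ← hb]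
      simp
    rw [this]
    exact (centralizer (T : Set G)).mul_mem ((centralizer (T : Set G)).zpow_mem h1 _)
      ((centralizer (T : Set G)).zpow_mem h2 _)
  · rw [orderOf_pow' _ hm0, hom, Nat.gcd_eq_right (Dvd.intro_left _ rfl),
      Nat.mul_div_cancel _ (Nat.pos_of_ne_zero hm0)]

/-- an element of odd order normalizing the abelian `2`-group `T` and commuting with all its
involutions centralizes `T`. -/
theorem mem_centralizer_of_commute_involutions [Finite G] {T : Subgroup G} (hT : IsPGroup 2 T)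
    (hTc : ∀ s ∈ T, ∀ t ∈ T, s * t = t * s) {x : G} (hx : x ∈ normalizer (T : Set G))
    (hodd : Odd (orderOf x)) (hinv : ∀ t ∈ T, t ^ 2 = 1 → x * t = t * x) :
    x ∈ centralizer (T : Set G) := by
  have : IsMulCommutative T := ⟨⟨fun a b => Subtype.ext (hTc a a.2 b b.2)⟩⟩
  have hZ : zpowers x ≤ normalizer (T : Set G) := by
    rw [zpowers_le]; exact hx
  have hcop : (Nat.card (zpowers x)).Coprime (Nat.card T) := by
    obtain ⟨k, hk⟩ := IsPGroup.iff_card.mp hT
    rw [hk, Nat.card_zpowers]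
    exact Nat.Coprime.pow_right _ (Nat.Coprime.symm (Nat.coprime_two_left.mpr hodd))
  obtain ⟨h1, h2⟩ := Cfsg.Agent.S0055.result (zpowers x) T hZ hcop
  have hcomm_le : ⁅T, (zpowers x : Subgroup G)⁆ ≤ T := Cfsg.Agent.S0055.commutator_le_V (zpowers x) T hZ
  have hbot : ⁅T, (zpowers x : Subgroup G)⁆ = ⊥ := by
    by_contra hne
    have hPG : IsPGroup 2 ↥(⁅T, (zpowers x : Subgroup G)⁆ : Subgroup G) := hT.to_le hcomm_le
    have hnt : Nontrivial ↥(⁅T, (zpowers x : Subgroup G)⁆ : Subgroup G) := (Subgroup.nontrivial_iff_ne_bot _).mpr hne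
    obtain ⟨k, hk⟩ := IsPGroup.iff_card.mp hPG
    have hk0 : k ≠ 0 := by
      rintro rfl
      rw [pow_zero] at hk
      have := (Nat.card_eq_one_iff_unique.mp hk).1
      exact not_subsingleton _ this
    have h2dvd : 2 ∣ Nat.card ↥(⁅T, (zpowers x : Subgroup G)⁆ : Subgroup G) := by rw [hk]; exact dvd_pow_self 2 hk0
    obtain ⟨⟨t, ht⟩, hto⟩ := exists_prime_orderOf_dvd_card' 2 h2dvd
    have hto' : orderOf t = 2 := by
      rw [← hto]; exact (Subgroup.orderOf_mk t ht).symm
    have htT : t ∈ T := hcomm_le ht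
    have ht2 : t ^ 2 = 1 := by rw [← hto']; exact pow_orderOf_eq_one t
    have htC : t ∈ centralizer ((zpowers x : Subgroup G) : Set G) := by
      intro z hz
      obtain ⟨n, rfl⟩ := mem_zpowers_iff.mp hz
      have : Commute x t := hinv t htT ht2
      exact (this.zpow_left n).eq
    have : t ∈ (T ⊓ centralizer ((zpowers x : Subgroup G) : Set G)) ⊓ ⁅T, (zpowers x : Subgroup G)⁆ :=
      ⟨⟨htT, htC⟩, ht⟩
    rw [h1, mem_bot] at this
    rw [this, orderOf_one] at hto'
    exact absurd hto' (by norm_num)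
  rw [hbot, sup_bot_eq] at h2
  intro t ht
  have : t ∈ T ⊓ centralizer ((zpowers x : Subgroup G) : Set G) := by rw [h2]; exact ht
  exact (this.2 x (mem_zpowers x)).symm

/-- B2: `|Ω₁(T)| ≥ 8` when a `p`-element (`p ≥ 5`) of `N(T)` does not centralize `T`. -/
theorem eight_le_card_omega [Finite G] {p : ℕ} [hp : Fact p.Prime] (hp5 : 5 ≤ p)
    {T : Subgroup G} (hT : IsPGroup 2 T) (hTc : ∀ s ∈ T, ∀ t ∈ T, s * t = t * s)
    {x : G} (hx : x ∈ normalizer (T : Set G)) (hxC : x ∉ centralizer (T : Set G))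
    {a : ℕ} (hxo : orderOf x = p ^ a)
    (A : Subgroup G) (hA : ∀ t, t ∈ A ↔ t ∈ T ∧ t ^ 2 = 1) : 8 ≤ Nat.card A := by
  have hp2 : p ≠ 2 := by omega
  have hpodd : Odd p := hp.out.odd_of_ne_two hp2
  have hodd : Odd (orderOf x) := by rw [hxo]; exact hpodd.pow
  -- an involution of `T` not centralized by `x`
  have hex : ∃ t ∈ T, t ^ 2 = 1 ∧ x * t ≠ t * x := by
    by_contra hcon
    push Not at hcon
    exact hxC (mem_centralizer_of_commute_involutions hT hTc hx hodd hcon)
  obtain ⟨t, htT, ht2, hxt⟩ := hex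
  have hAT : A ≤ T := fun s hs => ((hA s).mp hs).1
  have hf : ∀ i : ℕ, x ^ i * t * (x ^ i)⁻¹ ∈ A := by
    intro i
    rw [hA]
    refine ⟨(mem_normalizer_iff.mp ((normalizer (T : Set G)).pow_mem hx i) t).mp htT, ?_⟩
    rw [conj_pow, ht2]; simp
  have hinj : ∀ i j : ℕ, i < j → j < 5 → x ^ i * t * (x ^ i)⁻¹ ≠ x ^ j * t * (x ^ j)⁻¹ := by
    intro i j hij hj5 heq
    have hd : x ^ (j - i) * t = t * x ^ (j - i) := by
      have hji : x ^ j = x ^ i * x ^ (j - i) := by rw [← pow_add]; congr 1; omega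
      rw [hji] at heq
      have h3 : t = x ^ (j - i) * t * (x ^ (j - i))⁻¹ := by
        have := congrArg (fun z => (x ^ i)⁻¹ * z * x ^ i) heq
        simp only [mul_inv_rev] at this
        simpa [mul_assoc] using this
      calc x ^ (j - i) * t = x ^ (j - i) * t * (x ^ (j - i))⁻¹ * x ^ (j - i) := by group
        _ = t * x ^ (j - i) := by rw [← h3]
    have hcop : (j - i).Coprime (orderOf x) := by
      rw [hxo]
      apply Nat.Coprime.pow_right
      apply Nat.Coprime.symm
      rw [Nat.Prime.coprime_iff_not_dvd hp.out]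
      intro hdv
      have := Nat.le_of_dvd (by omega) hdv
      omega
    obtain ⟨m, hm⟩ := exists_pow_eq_self_of_coprime hcop
    apply hxt
    have hc : Commute (x ^ (j - i)) t := hd
    have := (hc.pow_left m).eq
    rw [hm] at this
    exact this
  -- six distinct elements of `A`
  let g : Option (Fin 5) → A := fun o =>
    match o with
    | none => 1
    | some i => ⟨x ^ (i : ℕ) * t * (x ^ (i : ℕ))⁻¹, hf i⟩
  have ht1 : t ≠ 1 := by
    rintro rfl; exact hxt (by simp)
  have hg : Function.Injective g := by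
    intro o1 o2 h12
    match o1, o2 with
    | none, none => rfl
    | none, some i =>
      exfalso
      have := congrArg Subtype.val h12
      simp only [g] at this
      have h4 : x ^ (i : ℕ) * t * (x ^ (i : ℕ))⁻¹ = 1 := this.symm
      rw [conj_eq_one_iff] at h4
      exact ht1 h4
    | some i, none =>
      exfalso
      have := congrArg Subtype.val h12
      simp only [g] at this
      have h4 : x ^ (i : ℕ) * t * (x ^ (i : ℕ))⁻¹ = 1 := this
      rw [conj_eq_one_iff] at h4
      exact ht1 h4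
    | some i, some j =>
      have := congrArg Subtype.val h12
      simp only [g] at this
      rcases lt_trichotomy (i : ℕ) (j : ℕ) with hlt | heq | hgt
      · exact absurd this (hinj i j hlt j.2)
      · rw [Fin.ext heq]
      · exact absurd this.symm (hinj j i hgt i.2)
  have h6 : 6 ≤ Nat.card A := by
    have := Nat.card_le_card_of_injective g hg
    simpa using this
  obtain ⟨k, hk⟩ := IsPGroup.iff_card.mp (hT.to_le hAT)
  rw [hk] at h6 ⊢
  have hk3 : 3 ≤ k := by
    by_contra hlt
    push Not at hlt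
    have : 2 ^ k ≤ 2 ^ 2 := Nat.pow_le_pow_right (by norm_num) (by omega)
    omega
  calc 8 = 2 ^ 3 := by norm_num
    _ ≤ 2 ^ k := Nat.pow_le_pow_right (by norm_num) hk3

end Cfsg.Agent.Lib.Helper93.S1936
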